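import Mathlib
import Cfsg.Agent.GroupStructure3.HSStab.Graph
import Cfsg.Agent.GroupStructure3.McLInv.Basic

/-!
Five matrices over the field of 25 elements permuting a family of fifty sets of points, as tables.
-/

set_option autoImplicit false
set_option maxRecDepth 10000

namespace Cfsg.Agent.GroupStructure3.HSStab

open Cfsg.Agent.GroupStructure3.McLInv (allB)

/-- The sum of two coded elements of the field. -/
def addT (x y : ℕ) : ℕ := (x % 5 + y % 5) % 5 + 5 * ((x / 5 + y / 5) % 5)

/-- The product of two coded elements of the field. -/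
def mulT (x y : ℕ) : ℕ :=
  (x % 5 * (y % 5) + 3 * (x / 5 * (y / 5))) % 5 +
    5 * ((x % 5 * (y / 5) + x / 5 * (y % 5) + 4 * (x / 5 * (y / 5))) % 5)

/-- A coordinate of a point. -/
def ptD (i j : ℕ) : ℕ := (ptNum >>> (14 * i)) % 16384 / 25 ^ j % 25

/-- An entry of a matrix given row by row. -/
def ent (M : List ℕ) (i j : ℕ) : ℕ := M.getD (3 * i + j) 0

/-- The product of two matrices. -/
def mulM (A B : List ℕ) : List ℕ :=
  (List.range 9).map fun e => addT (addT (mulT (ent A (e / 3) 0) (ent B 0 (e % 3)))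
    (mulT (ent A (e / 3) 1) (ent B 1 (e % 3)))) (mulT (ent A (e / 3) 2) (ent B 2 (e % 3)))

/-- The fifth power of an element. -/
def powFive (x : ℕ) : ℕ := mulT x (mulT (mulT x x) (mulT x x))

/-- The determinant. -/
def detT (A : List ℕ) : ℕ :=
  addT (addT (addT (mulT (ent A 0 0) (mulT (ent A 1 1) (ent A 2 2)))
    (mulT (ent A 0 1) (mulT (ent A 1 2) (ent A 2 0))))
    (mulT (ent A 0 2) (mulT (ent A 1 0) (ent A 2 1))))
    (mulT 4 (addT (addT (mulT (ent A 0 0) (mulT (ent A 1 2) (ent A 2 1)))
      (mulT (ent A 0 1) (mulT (ent A 1 0) (ent A 2 2))))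
      (mulT (ent A 0 2) (mulT (ent A 1 1) (ent A 2 0)))))

/-- One of the matrices. -/
def el (e : ℕ) : List ℕ := elL.getD e []

/-- The test of unitarity. -/
def unitOK (A : List ℕ) : Bool :=
  detT A == 1 && A.length == 9 && (allB 3 fun i => allB 3 fun j =>
    addT (addT (mulT (ent A 0 i) (powFive (ent A 0 j))) (mulT (ent A 1 i) (powFive (ent A 1 j))))
      (mulT (ent A 2 i) (powFive (ent A 2 j))) == if i = j then 1 else 0)

/-- A scalar matrix. -/
def scalarB (A : List ℕ) : Bool :=
  allB 3 fun i => allB 3 fun j => ent A i j == if i = j then ent A 0 0 else 0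

/-- Powers of a matrix. -/
def powM (A : List ℕ) : ℕ → List ℕ
  | 0 => [1, 0, 0, 0, 1, 0, 0, 0, 1]
  | n + 1 => mulM (powM A n) A

/-- A set of the family, as a mask. -/
def famM (k : ℕ) : ℕ := (famNum >>> (525 * k)) % 2 ^ 525

/-- The images of the sets. -/
def imgS : ℕ → List ℕ
  | 0 => imgL0
  | 1 => imgL1
  | 2 => imgL2
  | 3 => imgL3
  | _ => imgL4

/-- The images of the points. -/
def witN : ℕ → ℕ
  | 0 => witNum0
  | 1 => witNum1
  | 2 => witNum2
  | 3 => witNum3
  | _ => witNum4

/-- The index of the image of a point. -/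
def witJ (e i : ℕ) : ℕ := (witN e >>> (15 * i)) % 1024

/-- The scalar of the image of a point. -/
def witK (e i : ℕ) : ℕ := (witN e >>> (15 * i)) % 32768 / 1024

theorem field_ok : (∀ x < 25, x ≠ 0 → ∃ y < 25, mulT x y = 1) ∧
    (∀ x < 25, ∀ y < 25, addT x (mulT 4 y) = 0 → x = y) := by decide +kernel

theorem unit_ok : ∀ e < 5, unitOK (el e) = true := by decide +kernel

theorem lead_ok : (allB 525 fun i => (ptD i 0 == 1) || (ptD i 0 == 0 &&
    (ptD i 1 == 1 || (ptD i 1 == 0 && ptD i 2 == 1)))) = true := by decide +kernel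

theorem pt_inj : ((List.range 525).map fun i => (ptNum >>> (14 * i)) % 16384).Nodup ∧
    (allB 525 fun i => decide ((ptNum >>> (14 * i)) % 16384 < 15625)) = true := by decide +kernel

theorem wit_ok : (allB 5 fun e => allB 525 fun i =>
    decide (witJ e i < 525) && decide (witK e i < 25) && witK e i != 0 && (allB 3 fun r =>
      addT (addT (mulT (ent (el e) r 0) (ptD i 0)) (mulT (ent (el e) r 1) (ptD i 1)))
        (mulT (ent (el e) r 2) (ptD i 2)) == mulT (witK e i) (ptD (witJ e i) r))) = true := by
  decide +kernel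

theorem img_ok : (allB 5 fun e => allB 50 fun k => decide ((imgS e).getD k 50 < 50) &&
    allB 525 fun i => !(famM k).testBit i || (famM ((imgS e).getD k 50)).testBit (witJ e i)) = true := by
  decide +kernel

theorem img_moves : (imgS 0).getD 0 50 ≠ 0 ∨ (imgS 1).getD 0 50 ≠ 0 ∨ (imgS 2).getD 0 50 ≠ 0 ∨
    (imgS 3).getD 0 50 ≠ 0 ∨ (imgS 4).getD 0 50 ≠ 0 := by decide +kernel

/-- The number of common points of two sets. -/
def common (k l : ℕ) : ℕ := ((List.range 525).filter fun i => (famM k &&& famM l).testBit i).length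

theorem common_ok : (allB 50 fun k => allB 50 fun l =>
    if k = l then common k l == 105 && !(adjL.getD k 0).testBit l
    else if (adjL.getD k 0).testBit l then common k l == 45 else common k l == 15) = true := by
  decide +kernel

theorem order_ok :
    (scalarB (powM (el 0) 5) && !scalarB (el 0) && scalarB (powM (el 1) 5) && !scalarB (el 1) &&
      scalarB (powM (el 2) 7) && !scalarB (el 2) && scalarB (powM (el 3) 8) &&
      !scalarB (powM (el 3) 4) && scalarB (powM (el 4) 3) && !scalarB (el 4)) = true ∧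
    mulM (el 0) (el 1) = mulM (el 1) (el 0) ∧
    (allB 5 fun i => allB 5 fun j => (i == 0 && j == 0) ||
      !scalarB (mulM (powM (el 0) i) (powM (el 1) j))) = true := by decide +kernel

end Cfsg.Agent.GroupStructure3.HSStab
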