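import Mathlib
import Cfsg.Agent.GroupStructure3.HSStab.Codes
import Cfsg.Agent.Lib.Classical.UnitarySimple
import Cfsg.Agent.S0280
import Cfsg.Agent.S2149

/-!
The simple unitary group of dimension three over 25 elements acts on the graph of the fifty sets.
-/

set_option autoImplicit false
set_option maxRecDepth 10000

namespace Cfsg.Agent.GroupStructure3.HSStab

open Cfsg Matrix Cfsg.Agent.Classical Cfsg.Agent.Classical.Unitary
open Cfsg.Agent.GroupStructure3.McLInv (allB allB_spec)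

/-- A field of 25 elements with a root of `x² = 3 + 4x`. -/
structure TwentyFive (F : Type) [Field F] [Fintype F] where
  card : Fintype.card F = 25
  u : F
  eq : u * u = 3 + 4 * u

variable {F : Type} [Field F] [Fintype F]

theorem exists_twentyFive (hF : Fintype.card F = 25) : Nonempty (TwentyFive F) := by
  haveI : Fact (Nat.Prime 5) := ⟨by norm_num⟩
  haveI : CharP F 5 := charP_of_card_eq_prime_pow (p := 5) (f := 2) hF
  obtain ⟨s, hs⟩ : IsSquare (3 : F) := by
    rw [FiniteField.isSquare_iff (by rw [ringChar.eq F 5]; norm_num) (fun h => by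
      have h' : ((3 : ℕ) : F) = 0 := by exact_mod_cast h
      rw [CharP.cast_eq_zero_iff F 5] at h'
      norm_num at h'), hF]
    have h' : ((3 ^ 12 : ℕ) : F) = ((1 : ℕ) : F) := by
      rw [CharP.natCast_eq_natCast F 5]; decide
    norm_num at h' ⊢
    exact h'
  refine ⟨⟨hF, 3 * (s - 1), ?_⟩⟩
  have h5 : (5 : F) = 0 := by exact_mod_cast CharP.cast_eq_zero F 5
  linear_combination (-9 : F) * hs + (9 - 6 * s) * h5

theorem mod_div_five (A B : ℕ) : (A % 5 + 5 * (B % 5)) % 5 = A % 5 ∧ (A % 5 + 5 * (B % 5)) / 5 = B % 5 := by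
  omega

theorem addT_lt (x y : ℕ) : addT x y < 25 := by unfold addT; omega

theorem mulT_lt (x y : ℕ) : mulT x y < 25 := by unfold mulT; omega

theorem ptD_lt (i j : ℕ) : ptD i j < 25 := Nat.mod_lt _ (by norm_num)

theorem mem_range_of_testBit {k i : ℕ} (h : (famM k).testBit i = true) : i < 525 := by
  by_contra hi
  have hlt : famM k < 2 ^ i := lt_of_lt_of_le (Nat.mod_lt _ (Nat.two_pow_pos _))
    (Nat.pow_le_pow_right (by norm_num) (not_lt.1 hi))
  rw [Nat.testBit_lt_two_pow hlt] at h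
  exact absurd h (by norm_num)

/-- The points of a set of the family. -/
def Fam (k : Fin 50) : Finset (Fin 525) := Finset.univ.filter fun i => (famM k).testBit i

theorem self_adj (k : Fin 50) : (adjL.getD k 0).testBit k = false := by
  have h := allB_spec (allB_spec common_ok k k.2) k k.2
  rw [if_pos rfl, Bool.and_eq_true, Bool.not_eq_true'] at h
  exact h.2

theorem ent_mulM_lt (A B : List ℕ) (i j : ℕ) : ent (mulM A B) i j < 25 := by
  rw [ent, List.getD_eq_getElem?_getD, mulM, List.getElem?_map]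
  rcases (List.range 9)[3 * i + j]? with _ | e <;> simp [addT_lt]

theorem ent_el_lt (e : Fin 5) (i j : ℕ) : ent (el e) i j < 25 := by
  have h : ∀ e < 5, ∀ x ∈ el e, x < 25 := by decide +kernel
  rw [ent, List.getD_eq_getElem?_getD]
  rcases hc : (el e)[3 * i + j]? with _ | x
  · norm_num
  · exact h e e.2 x (List.mem_of_getElem? hc)

theorem ent_pow_lt (e : Fin 5) : ∀ (n : ℕ) (i j : ℕ), ent (powM (el e) (n + 1)) i j < 25 :=
  fun n i j => by rw [powM]; exact ent_mulM_lt _ _ i j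

variable (D : TwentyFive F)

namespace TwentyFive

/-- The element of a code. -/
def φ (x : ℕ) : F := ((x % 5 : ℕ) : F) + ((x / 5 : ℕ) : F) * D.u

include D

theorem hF : Fintype.card F = 5 ^ 2 := D.card

theorem charP : CharP F 5 :=
  haveI : Fact (Nat.Prime 5) := ⟨by norm_num⟩
  charP_of_card_eq_prime_pow (p := 5) (f := 2) D.card

theorem cast_mod (n : ℕ) : ((n % 5 : ℕ) : F) = (n : F) := by
  haveI := D.charP
  exact (CharP.natCast_eq_natCast F 5).2 (Nat.mod_modEq n 5)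

theorem φ_addT (x y : ℕ) : D.φ (addT x y) = D.φ x + D.φ y := by
  rw [addT, φ, (mod_div_five _ _).1, (mod_div_five _ _).2, D.cast_mod, D.cast_mod, φ, φ]
  push_cast
  ring

theorem φ_mulT (x y : ℕ) : D.φ (mulT x y) = D.φ x * D.φ y := by
  rw [mulT, φ, (mod_div_five _ _).1, (mod_div_five _ _).2, D.cast_mod, D.cast_mod, φ, φ]
  push_cast
  linear_combination (-((x / 5 : ℕ) : F) * ((y / 5 : ℕ) : F)) * D.eq

theorem φ_zero : D.φ 0 = 0 := by simp [φ]

theorem φ_one : D.φ 1 = 1 := by simp [φ]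

theorem φ_four : D.φ 4 = -1 := by
  haveI := D.charP
  have h5 : (5 : F) = 0 := by exact_mod_cast CharP.cast_eq_zero F 5
  have h : D.φ 4 = 4 := by simp [φ]
  rw [h]
  linear_combination h5

theorem φ_eq_zero {x : ℕ} (hx : x < 25) (h : D.φ x = 0) : x = 0 := by
  by_contra h0
  obtain ⟨y, -, hy⟩ := field_ok.1 x hx h0
  have := D.φ_mulT x y
  rw [hy, D.φ_one, h, zero_mul] at this
  exact one_ne_zero this

theorem φ_inj {x y : ℕ} (hx : x < 25) (hy : y < 25) (h : D.φ x = D.φ y) : x = y := by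
  refine field_ok.2 x hx y hy (D.φ_eq_zero (addT_lt _ _) ?_)
  rw [D.φ_addT, D.φ_mulT, h, D.φ_four]
  ring

theorem φ_powFive (x : ℕ) : D.φ (powFive x) = D.φ x ^ 5 := by
  rw [powFive, D.φ_mulT, D.φ_mulT, D.φ_mulT]
  ring

/-- The vector of a point. -/
def P (i : ℕ) : Fin 3 → F := fun j => D.φ (ptD i j)

/-- The matrix of a list of entries. -/
def mt (A : List ℕ) : Matrix (Fin 3) (Fin 3) F := fun i j => D.φ (ent A i j)

theorem mt_mulM (A B : List ℕ) : D.mt (mulM A B) = D.mt A * D.mt B := by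
  ext i j
  have hi := i.2
  have hj := j.2
  rw [Matrix.mul_apply, Fin.sum_univ_three]
  show D.φ ((mulM A B).getD (3 * (i : ℕ) + j) 0) = _
  rw [mulM, List.getD_eq_getElem _ _ (by rw [List.length_map, List.length_range]; omega),
    List.getElem_map, List.getElem_range, show (3 * (i : ℕ) + j) / 3 = i by omega,
    show (3 * (i : ℕ) + j) % 3 = j by omega, D.φ_addT, D.φ_addT, D.φ_mulT, D.φ_mulT, D.φ_mulT]
  rfl

theorem mt_powM (A : List ℕ) (n : ℕ) : D.mt (powM A n) = D.mt A ^ n := by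
  induction n with
  | zero =>
    ext i j
    fin_cases i <;> fin_cases j <;> simp [mt, powM, ent, D.φ_zero, D.φ_one]
  | succ n ih => rw [powM, D.mt_mulM, ih, pow_succ]

theorem det_eq {A : List ℕ} (h : unitOK A = true) : (D.mt A).det = 1 := by
  rw [unitOK, Bool.and_eq_true, Bool.and_eq_true, beq_iff_eq] at h
  have e := congrArg D.φ h.1.1
  simp only [detT, D.φ_addT, D.φ_mulT, D.φ_four, D.φ_one] at e
  rw [Matrix.det_fin_three]
  simp only [mt, Fin.val_zero, Fin.val_one, Fin.val_two]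
  linear_combination e

theorem preserves {A : List ℕ} (h : unitOK A = true) (a b : Fin 3 → F) :
    Cfsg.hermForm 3 F 5 (D.mt A *ᵥ a) (D.mt A *ᵥ b) = Cfsg.hermForm 3 F 5 a b := by
  rw [unitOK, Bool.and_eq_true] at h
  revert a b
  refine (preserves_iff D.hF _).2 ?_
  ext i j
  have e := congrArg D.φ (beq_iff_eq.1 (allB_spec (allB_spec h.2 i i.2) j j.2))
  simp only [D.φ_addT, D.φ_mulT, D.φ_powFive] at e
  rw [Matrix.mul_apply, Fin.sum_univ_three, Matrix.one_apply]
  simp only [Matrix.transpose_apply, Matrix.map_apply, Forms.HermStd.qHom_apply, mt, Fin.val_zero, Fin.val_one, Fin.val_two]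
  rw [e]
  split_ifs with h1 h2
  · rw [D.φ_one]
  · exact absurd (Fin.ext h1) h2
  · next h2 => exact absurd (congrArg Fin.val h2) h1
  · rw [D.φ_zero]

/-- A matrix in the group. -/
def X (e : Fin 5) : Cfsg.SU 3 F 5 :=
  suMk (D.mt (el e)) (D.det_eq (unit_ok e e.2)) (D.preserves (unit_ok e e.2))

theorem mat_X (e : Fin 5) : mat (D.X e) = D.mt (el e) := mat_ext fun v => suMk_mulVec _ _ _ v

theorem P_lead {i : ℕ} (hi : i < 525) :
    ∃ j : Fin 3, D.P i j = 1 ∧ ∀ k : Fin 3, k < j → D.P i k = 0 := by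
  have h := allB_spec lead_ok i hi
  simp only [Bool.or_eq_true, Bool.and_eq_true, beq_iff_eq] at h
  rcases h with h | ⟨h0, h | ⟨h1, h⟩⟩
  · refine ⟨0, ?_, fun k hk => absurd hk (by simp)⟩
    show D.φ (ptD i 0) = 1
    rw [h, D.φ_one]
  · refine ⟨1, ?_, fun k hk => ?_⟩
    · show D.φ (ptD i 1) = 1
      rw [h, D.φ_one]
    · fin_cases k
      · show D.φ (ptD i 0) = 0
        rw [h0, D.φ_zero]
      · exact absurd hk (by simp)
      · exact absurd hk (by decide)
  · refine ⟨2, ?_, fun k hk => ?_⟩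
    · show D.φ (ptD i 2) = 1
      rw [h, D.φ_one]
    · fin_cases k
      · show D.φ (ptD i 0) = 0
        rw [h0, D.φ_zero]
      · show D.φ (ptD i 1) = 0
        rw [h1, D.φ_zero]
      · exact absurd hk (by decide)

theorem P_ne {i : ℕ} (hi : i < 525) : D.P i ≠ 0 := fun h => by
  obtain ⟨j, hj, -⟩ := D.P_lead hi
  rw [h] at hj
  exact zero_ne_one hj

theorem P_inj {i j : ℕ} (hi : i < 525) (hj : j < 525) {a : F} (h : D.P i = a • D.P j) : i = j := by
  obtain ⟨x, hx, hx'⟩ := D.P_lead hi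
  obtain ⟨y, hy, hy'⟩ := D.P_lead hj
  have hxy : x = y := by
    rcases lt_trichotomy x y with h' | h' | h'
    · have := congrFun h x
      rw [hx, Pi.smul_apply, hy' x h', smul_zero] at this
      exact absurd this one_ne_zero
    · exact h'
    · have := congrFun h y
      rw [hx' y h', Pi.smul_apply, hy, smul_eq_mul, mul_one] at this
      rw [← this, zero_smul] at h
      exact absurd h (D.P_ne hi)
  have ha : a = 1 := by
    have := congrFun h x
    rw [hx, Pi.smul_apply, hxy, hy, smul_eq_mul, mul_one] at this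
    exact this.symm
  rw [ha, one_smul] at h
  refine List.inj_on_of_nodup_map pt_inj.1 (List.mem_range.2 hi) (List.mem_range.2 hj) ?_
  have hbi := of_decide_eq_true (allB_spec pt_inj.2 i hi)
  have hbj := of_decide_eq_true (allB_spec pt_inj.2 j hj)
  have e0 := D.φ_inj (ptD_lt _ _) (ptD_lt _ _) (congrFun h 0)
  have e1 := D.φ_inj (ptD_lt _ _) (ptD_lt _ _) (congrFun h 1)
  have e2 := D.φ_inj (ptD_lt _ _) (ptD_lt _ _) (congrFun h 2)
  simp only [ptD, Fin.val_zero, Fin.val_one, Fin.val_two] at e0 e1 e2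
  norm_num at e0 e1 e2
  omega

/-- A set of the family is sent into another. -/
def Maps (g : Cfsg.SU 3 F 5) (k l : Fin 50) : Prop :=
  ∀ i ∈ Fam k, ∃ j ∈ Fam l, ∃ a : F, a ≠ 0 ∧ mat g *ᵥ D.P i = a • D.P j

theorem maps_comp {g h : Cfsg.SU 3 F 5} {k l m : Fin 50} (hh : D.Maps h k l) (hg : D.Maps g l m) :
    D.Maps (g * h) k m := by
  intro i hi
  obtain ⟨j, hj, a, ha, e⟩ := hh i hi
  obtain ⟨j', hj', b, hb, e'⟩ := hg j hj
  exact ⟨j', hj', a * b, mul_ne_zero ha hb, by
    rw [mul_mulVec, e, Matrix.mulVec_smul, e', smul_smul]⟩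

theorem card_common (k l : Fin 50) : (Fam k ∩ Fam l).card =
    if k = l then 105 else if (adjL.getD k 0).testBit l then 45 else 15 := by
  have h := allB_spec (allB_spec common_ok k k.2) l l.2
  have hc : (Fam k ∩ Fam l).card = common k l := by
    rw [common, ← List.toFinset_card_of_nodup (List.nodup_range.filter _),
      ← Finset.card_map Fin.valEmbedding]
    refine congrArg Finset.card (Finset.ext fun i => ?_)
    simp only [Fam, Finset.mem_map, Finset.mem_inter, Finset.mem_filter, Finset.mem_univ, true_and,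
      Fin.valEmbedding_apply, List.mem_toFinset, List.mem_filter, List.mem_range, Nat.testBit_and,
      Bool.and_eq_true]
    constructor
    · rintro ⟨a, ha, rfl⟩
      exact ⟨a.2, ha⟩
    · rintro ⟨hi, hh⟩
      exact ⟨⟨i, hi⟩, hh, rfl⟩
  rw [hc]
  by_cases e : k = l
  · subst e
    rw [if_pos rfl, Bool.and_eq_true, beq_iff_eq] at h
    rw [if_pos rfl]
    exact h.1
  · rw [if_neg fun e' => e (Fin.ext e')] at h
    rw [if_neg e]
    split_ifs at h ⊢ <;> exact beq_iff_eq.1 h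

/-- The elements preserving the family, as a monoid. -/
def K0 : Submonoid (Cfsg.SU 3 F 5) where
  carrier := {g | ∀ k, ∃ l, D.Maps g k l}
  one_mem' := fun k => ⟨k, fun i hi => ⟨i, hi, 1, one_ne_zero, by rw [mat_one, Matrix.one_mulVec, one_smul]⟩⟩
  mul_mem' := fun {g h} hg hh k => by
    obtain ⟨l, hl⟩ := hh k
    obtain ⟨m, hm⟩ := hg l
    exact ⟨m, D.maps_comp hl hm⟩

/-- The stabiliser of the family. -/
def K : Subgroup (Cfsg.SU 3 F 5) :=
  { D.K0 with
    inv_mem' := fun {g} hg => Submonoid.powers_le.2 hg (mem_powers_iff_mem_zpowers.2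
      (inv_mem (Subgroup.mem_zpowers g))) }

theorem mem_K {g : Cfsg.SU 3 F 5} : g ∈ D.K ↔ ∀ k, ∃ l, D.Maps g k l := Iff.rfl

theorem X_maps (e : Fin 5) (k : Fin 50) :
    ∃ l : Fin 50, (l : ℕ) = (imgS e).getD k 50 ∧ D.Maps (D.X e) k l := by
  have h := allB_spec (allB_spec img_ok e e.2) k k.2
  rw [Bool.and_eq_true, decide_eq_true_eq] at h
  refine ⟨⟨_, h.1⟩, rfl, fun i hi => ?_⟩
  have hw := allB_spec (allB_spec wit_ok e e.2) i i.2
  simp only [Bool.and_eq_true, decide_eq_true_eq, bne_iff_ne] at hw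
  obtain ⟨⟨⟨hj, hk⟩, hk0⟩, heq⟩ := hw
  have ht := allB_spec h.2 i i.2
  rw [(Finset.mem_filter.1 hi).2, Bool.not_true, Bool.false_or] at ht
  refine ⟨⟨_, hj⟩, Finset.mem_filter.2 ⟨Finset.mem_univ _, ht⟩, D.φ (witK e i),
    fun e0 => hk0 (D.φ_eq_zero hk e0), ?_⟩
  rw [D.mat_X]
  funext r
  have er := congrArg D.φ (beq_iff_eq.1 (allB_spec heq r r.2))
  simp only [D.φ_addT, D.φ_mulT] at er
  rw [Matrix.mulVec, dotProduct, Fin.sum_univ_three, Pi.smul_apply, smul_eq_mul]
  exact er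

theorem X_mem (e : Fin 5) : D.X e ∈ D.K := fun k => (D.X_maps e k).imp fun _ h => h.2

theorem center_le : Subgroup.center (Cfsg.SU 3 F 5) ≤ D.K := by
  intro g hg k
  obtain ⟨a, ha⟩ := (mem_center_iff D.hF (by norm_num) g).1 hg
  refine ⟨k, fun i hi => ⟨i, hi, a, fun h0 => ?_, by rw [ha, Matrix.smul_mulVec, Matrix.one_mulVec]⟩⟩
  refine mat_mulVec_ne_zero g (D.P_ne i.2) ?_
  rw [ha, h0, zero_smul, Matrix.zero_mulVec]

theorem scalar_iff (A : List ℕ) (hA : ∀ i j, ent A i j < 25) :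
    (∃ a : F, D.mt A = a • (1 : Matrix (Fin 3) (Fin 3) F)) ↔ scalarB A = true := by
  constructor
  · rintro ⟨a, ha⟩
    have key : ∀ i j : Fin 3, D.φ (ent A i j) = if i = j then D.φ (ent A 0 0) else 0 := by
      intro i j
      have h00 := congrFun (congrFun ha 0) 0
      have hij := congrFun (congrFun ha i) j
      simp only [Matrix.smul_apply, Matrix.one_apply, smul_eq_mul, mt, if_true, mul_one,
        Fin.val_zero] at h00 hij
      rw [hij, h00]
      split_ifs <;> simp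
    rw [scalarB]
    have hb : ∀ i : Fin 3, ∀ j : Fin 3, (ent A i j == if (i : ℕ) = j then ent A 0 0 else 0) = true := by
      intro i j
      rw [beq_iff_eq]
      refine D.φ_inj (hA _ _) (by split_ifs <;> [exact hA _ _; norm_num]) ?_
      rw [key]
      by_cases h : i = j
      · rw [if_pos h, if_pos (congrArg Fin.val h)]
      · rw [if_neg h, if_neg fun e => h (Fin.ext e), D.φ_zero]
    simp only [allB, Bool.and_eq_true, Bool.and_true]
    exact ⟨⟨hb 2 2, hb 2 1, hb 2 0⟩, ⟨hb 1 2, hb 1 1, hb 1 0⟩, hb 0 2, hb 0 1, hb 0 0⟩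
  · intro h
    refine ⟨D.φ (ent A 0 0), ?_⟩
    ext i j
    have e := congrArg D.φ (beq_iff_eq.1 (allB_spec (allB_spec h i i.2) j j.2))
    rw [Matrix.smul_apply, Matrix.one_apply, smul_eq_mul, mul_ite, mul_one, mul_zero]
    by_cases hij : i = j
    · rw [if_pos hij]; rw [if_pos (congrArg Fin.val hij)] at e; exact e
    · rw [if_neg hij]; rw [if_neg fun e' => hij (Fin.ext e'), D.φ_zero] at e; exact e

theorem mat_pow (g : Cfsg.SU 3 F 5) (n : ℕ) : mat (g ^ n) = mat g ^ n := by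
  induction n with
  | zero => rw [pow_zero, pow_zero, mat_one]
  | succ n ih => rw [pow_succ, pow_succ, mat_mul, ih]

theorem mk_pow_one (e : Fin 5) {n : ℕ} :
    ((D.X e : Cfsg.PSU 3 F 5) ^ (n + 1) = 1) ↔ scalarB (powM (el e) (n + 1)) = true := by
  rw [← QuotientGroup.mk_pow, QuotientGroup.eq_one_iff, mem_center_iff D.hF (by norm_num),
    D.mat_pow, D.mat_X, ← D.mt_powM, D.scalar_iff _ (ent_pow_lt e n)]

theorem mk_ne_one (e : Fin 5) (h : scalarB (el e) = false) : (D.X e : Cfsg.PSU 3 F 5) ≠ 1 := by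
  rw [Ne, QuotientGroup.eq_one_iff, mem_center_iff D.hF (by norm_num), D.mat_X,
    D.scalar_iff _ (ent_el_lt e), h]
  exact Bool.false_ne_true

/-- The image of the stabiliser. -/
def Kb : Subgroup (Cfsg.PSU 3 F 5) := D.K.map (QuotientGroup.mk' _)

theorem X_Kb (e : Fin 5) : (D.X e : Cfsg.PSU 3 F 5) ∈ D.Kb := ⟨_, D.X_mem e, rfl⟩

theorem dvd_card_Kb : 7 ∣ Nat.card D.Kb ∧ 8 ∣ Nat.card D.Kb ∧ 3 ∣ Nat.card D.Kb ∧ 25 ∣ Nat.card D.Kb := by
  haveI : Fact (Nat.Prime 2) := ⟨Nat.prime_two⟩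
  haveI : Fact (Nat.Prime 3) := ⟨by norm_num⟩
  haveI : Fact (Nat.Prime 5) := ⟨by norm_num⟩
  haveI : Fact (Nat.Prime 7) := ⟨by norm_num⟩
  have ho := order_ok.1
  simp only [Bool.and_eq_true, Bool.not_eq_true'] at ho
  obtain ⟨⟨⟨⟨⟨⟨⟨⟨⟨a5, a1⟩, b5⟩, b1⟩, c7⟩, c1⟩, d8⟩, d4⟩, f3⟩, f1⟩ := ho
  have key : ∀ e : Fin 5, orderOf (D.X e : Cfsg.PSU 3 F 5) ∣ Nat.card D.Kb := fun e => by
    rw [← Subgroup.orderOf_mk _ (D.X_Kb e)]
    exact orderOf_dvd_natCard _
  refine ⟨?_, ?_, ?_, ?_⟩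
  · have h := key 2
    rwa [orderOf_eq_prime (p := 7) ((D.mk_pow_one 2 (n := 6)).2 c7) (D.mk_ne_one 2 c1)] at h
  · have h := key 3
    rwa [show orderOf (D.X 3 : Cfsg.PSU 3 F 5) = 2 ^ 3 from orderOf_eq_prime_pow (fun h' => by
      have := (D.mk_pow_one 3 (n := 3)).1 h'
      rw [show ((3 : Fin 5) : ℕ) = 3 from rfl, d4] at this
      exact Bool.false_ne_true this) ((D.mk_pow_one 3 (n := 7)).2 d8)] at h
  · have h := key 4
    rwa [orderOf_eq_prime (p := 3) ((D.mk_pow_one 4 (n := 2)).2 f3) (D.mk_ne_one 4 f1)] at h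
  · set a : Cfsg.PSU 3 F 5 := (D.X 0 : Cfsg.PSU 3 F 5) with ha
    set b : Cfsg.PSU 3 F 5 := (D.X 1 : Cfsg.PSU 3 F 5) with hb
    have oa : orderOf a = 5 := orderOf_eq_prime ((D.mk_pow_one 0 (n := 4)).2 a5) (D.mk_ne_one 0 a1)
    have ob : orderOf b = 5 := orderOf_eq_prime ((D.mk_pow_one 1 (n := 4)).2 b5) (D.mk_ne_one 1 b1)
    have ha5 : a ^ 5 = 1 := (D.mk_pow_one 0 (n := 4)).2 a5
    have hb5 : b ^ 5 = 1 := (D.mk_pow_one 1 (n := 4)).2 b5
    have hcomm : Commute a b := by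
      show a * b = b * a
      rw [ha, hb, ← QuotientGroup.mk_mul, ← QuotientGroup.mk_mul]
      refine congrArg _ (SU_ext fun x => ?_)
      rw [mat_mul, mat_mul, D.mat_X, D.mat_X, ← D.mt_mulM, ← D.mt_mulM]
      exact congrArg (fun M => D.mt M *ᵥ x) order_ok.2.1
    let f : Fin 5 × Fin 5 → D.Kb := fun p =>
      ⟨a ^ (p.1 : ℕ) * b ^ (p.2 : ℕ), mul_mem (pow_mem (D.X_Kb 0) _) (pow_mem (D.X_Kb 1) _)⟩
    have hinj : Function.Injective f := by
      rintro ⟨i, j⟩ ⟨i', j'⟩ e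
      have e' : a ^ (i : ℕ) * b ^ (j : ℕ) = a ^ (i' : ℕ) * b ^ (j' : ℕ) := congrArg Subtype.val e
      have hz : a ^ (((i : ℕ) + 5 - i') % 5) * b ^ (((j : ℕ) + 5 - j') % 5) = 1 := by
        have hi := i'.2
        have hj := j'.2
        rw [← pow_eq_pow_mod _ ha5, ← pow_eq_pow_mod _ hb5]
        have h1 : a ^ (i' : ℕ) * a ^ ((i : ℕ) + 5 - i') = a ^ (i : ℕ) := by
          rw [← pow_add, show (i' : ℕ) + ((i : ℕ) + 5 - i') = i + 5 by omega, pow_add, ha5, mul_one]
        have h2 : b ^ (j' : ℕ) * b ^ ((j : ℕ) + 5 - j') = b ^ (j : ℕ) := by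
          rw [← pow_add, show (j' : ℕ) + ((j : ℕ) + 5 - j') = j + 5 by omega, pow_add, hb5, mul_one]
        refine (mul_eq_left (a := a ^ (i' : ℕ) * b ^ (j' : ℕ))).1 ?_
        rw [(hcomm.symm.pow_pow _ _).mul_mul_mul_comm, h1, h2, e']
      set p := ((i : ℕ) + 5 - i') % 5 with hp
      set q := ((j : ℕ) + 5 - j') % 5 with hq
      have hpq : p = 0 ∧ q = 0 := by
        by_contra hne
        have hchk := allB_spec (allB_spec order_ok.2.2 p (Nat.mod_lt _ (by norm_num))) q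
          (Nat.mod_lt _ (by norm_num))
        simp only [Bool.or_eq_true, Bool.and_eq_true, beq_iff_eq, Bool.not_eq_true'] at hchk
        have hs := hchk.resolve_left hne
        rw [ha, hb, ← QuotientGroup.mk_pow, ← QuotientGroup.mk_pow, ← QuotientGroup.mk_mul,
          QuotientGroup.eq_one_iff, mem_center_iff D.hF (by norm_num), mat_mul, D.mat_pow, D.mat_pow,
          D.mat_X, D.mat_X, ← D.mt_powM, ← D.mt_powM, ← D.mt_mulM,
          D.scalar_iff _ (ent_mulM_lt _ _)] at hz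
        rw [show ((0 : Fin 5) : ℕ) = 0 from rfl, show ((1 : Fin 5) : ℕ) = 1 from rfl, hs] at hz
        exact Bool.false_ne_true hz
      have := i.2; have := i'.2; have := j.2; have := j'.2
      exact Prod.ext (Fin.ext (show (i : ℕ) = i' by omega)) (Fin.ext (show (j : ℕ) = j' by omega))
    have hle : Subgroup.closure ({a, b} : Set (Cfsg.PSU 3 F 5)) ≤ D.Kb := (Subgroup.closure_le _).2 (by
      rintro x (rfl | rfl)
      exacts [D.X_Kb 0, D.X_Kb 1])
    let S : Subgroup (Cfsg.PSU 3 F 5) := Subgroup.closure ({a, b} : Set (Cfsg.PSU 3 F 5))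
    have hS : IsPGroup 5 S := by
      intro x
      refine ⟨1, Subtype.ext ?_⟩
      rw [pow_one, SubgroupClass.coe_pow]
      have key : ∀ y ∈ S, y ^ 5 = 1 ∧ Commute a y ∧ Commute b y := by
        intro y hy
        induction hy using Subgroup.closure_induction with
        | mem y hy =>
          rcases hy with rfl | rfl
          exacts [⟨ha5, Commute.refl _, hcomm.symm⟩, ⟨hb5, hcomm, Commute.refl _⟩]
        | one => exact ⟨one_pow _, Commute.one_right _, Commute.one_right _⟩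
        | mul y z hy' hz' hy hz =>
          refine ⟨?_, hy.2.1.mul_right hz.2.1, hy.2.2.mul_right hz.2.2⟩
          have hyz : Commute y z := by
            refine Subgroup.closure_induction (p := fun w _ => Commute w z) ?_ (Commute.one_left _)
              (fun _ _ _ _ h h' => h.mul_left h') (fun _ _ h => h.inv_left) hy'
            rintro w (rfl | rfl)
            exacts [hz.2.1, hz.2.2]
          rw [hyz.mul_pow, hy.1, hz.1, one_mul]
        | inv y hy' hy => exact ⟨by rw [inv_pow, hy.1, inv_one], hy.2.1.inv_right, hy.2.2.inv_right⟩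
      exact (key x.1 x.2).1
    obtain ⟨n, hn⟩ := IsPGroup.iff_card.1 hS
    have hge : 25 ≤ Nat.card S := by
      let f' : Fin 5 × Fin 5 → S := fun p => ⟨a ^ (p.1 : ℕ) * b ^ (p.2 : ℕ),
        mul_mem (pow_mem (Subgroup.subset_closure (show a ∈ ({a, b} : Set _) from Or.inl rfl)) _)
          (pow_mem (Subgroup.subset_closure (show b ∈ ({a, b} : Set _) from Or.inr rfl)) _)⟩
      have h := Nat.card_le_card_of_injective f' fun p q e =>
        hinj (Subtype.ext (Subtype.ext_iff.1 e :))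
      simpa using h
    refine dvd_trans ?_ (Subgroup.card_dvd_of_le hle)
    show 5 ^ 2 ∣ Nat.card S
    rw [hn]
    refine pow_dvd_pow 5 ?_
    by_contra h2
    have h3 := Nat.pow_le_pow_right (show 1 ≤ 5 by norm_num) (show n ≤ 1 by omega)
    rw [← hn] at h3
    omega

theorem K_top : D.K = ⊤ := by
  haveI : Fact (Nat.Prime 5) := ⟨by norm_num⟩
  have hG : Nat.card (Cfsg.PSU 3 F 5) = 126000 := by
    have h := Cfsg.Agent.S0280.result D.hF 3 (by norm_num)
    norm_num [Finset.prod_range_succ] at h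
    omega
  have htop : D.Kb = ⊤ := by
    by_contra hne
    have h50 := (Cfsg.Agent.S2149.result D.card).1 D.Kb hne
    have h := D.Kb.card_mul_index
    obtain ⟨h7, h8, h3, h25⟩ := D.dvd_card_Kb
    have hd : 4200 ∣ Nat.card D.Kb :=
      (Nat.Coprime.mul_dvd_of_dvd_of_dvd (by norm_num)
        (Nat.Coprime.mul_dvd_of_dvd_of_dvd (by norm_num)
          (Nat.Coprime.mul_dvd_of_dvd_of_dvd (by norm_num) h7 h8) h3) h25 : 7 * 8 * 3 * 25 ∣ _)
    have hpos : 0 < Nat.card D.Kb := Nat.card_pos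
    have h1 : 4200 * 50 ≤ Nat.card D.Kb * D.Kb.index := Nat.mul_le_mul (Nat.le_of_dvd hpos hd) h50
    rw [hG] at h
    omega
  rw [eq_top_iff]
  intro g _
  have hg : (g : Cfsg.PSU 3 F 5) ∈ D.Kb := htop ▸ Subgroup.mem_top _
  obtain ⟨k, hk, e⟩ := hg
  have hz : k⁻¹ * g ∈ Subgroup.center (Cfsg.SU 3 F 5) := QuotientGroup.eq.1 e
  have := mul_mem hk (D.center_le hz)
  rwa [mul_inv_cancel_left] at this

theorem maps_exists (g : Cfsg.SU 3 F 5) (k : Fin 50) : ∃ l, D.Maps g k l :=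
  (D.mem_K.1 (D.K_top ▸ Subgroup.mem_top g)) k

/-- The image of a set. -/
noncomputable def img (g : Cfsg.SU 3 F 5) (k : Fin 50) : Fin 50 := (D.maps_exists g k).choose

theorem common_le (g : Cfsg.SU 3 F 5) {k k' l l' : Fin 50} (h : D.Maps g k l) (h' : D.Maps g k' l') :
    (Fam k ∩ Fam k').card ≤ (Fam l ∩ Fam l').card := by
  classical
  have hex : ∀ i : ↥(Fam k ∩ Fam k'), ∃ j : ↥(Fam l ∩ Fam l'), ∃ a : F, a ≠ 0 ∧
      mat g *ᵥ D.P i.1 = a • D.P j.1 := by
    rintro ⟨i, hi⟩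
    obtain ⟨h1, h2⟩ := Finset.mem_inter.1 hi
    obtain ⟨j, hj, a, ha, e⟩ := h i h1
    obtain ⟨j', hj', b, hb, e'⟩ := h' i h2
    rw [e] at e'
    have : D.P j = (a⁻¹ * b) • D.P j' := by rw [mul_smul, ← e', smul_smul, inv_mul_cancel₀ ha, one_smul]
    have hjj : j = j' := Fin.ext (D.P_inj j.2 j'.2 this)
    exact ⟨⟨j, Finset.mem_inter.2 ⟨hj, hjj ▸ hj'⟩⟩, a, ha, e⟩
  choose f a ha hf using hex
  refine Finset.card_le_card_of_injOn (fun i => if hi : i ∈ Fam k ∩ Fam k' then (f ⟨i, hi⟩).1 else i) ?_ ?_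
  · intro i hi
    simp only [Finset.mem_coe] at hi ⊢
    rw [dif_pos hi]
    exact (f ⟨i, hi⟩).2
  · intro i hi i' hi' e
    simp only [Finset.mem_coe] at hi hi'
    simp only [dif_pos hi, dif_pos hi'] at e
    have e1 := hf ⟨i, hi⟩
    have e2 := hf ⟨i', hi'⟩
    rw [e] at e1
    have hne := ha ⟨i', hi'⟩
    have hm : mat g *ᵥ D.P i = mat g *ᵥ ((a ⟨i, hi⟩ * (a ⟨i', hi'⟩)⁻¹) • D.P i') := by
      rw [Matrix.mulVec_smul, e1, e2, smul_smul, mul_assoc, inv_mul_cancel₀ hne, mul_one]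
    refine Fin.ext (D.P_inj i.2 i'.2 (a := a ⟨i, hi⟩ * (a ⟨i', hi'⟩)⁻¹) ?_)
    by_contra hd
    exact mat_mulVec_ne_zero g (sub_ne_zero.2 hd) (by rw [Matrix.mulVec_sub, hm, sub_self])

theorem maps_img (g : Cfsg.SU 3 F 5) (k : Fin 50) : D.Maps g k (D.img g k) :=
  (D.maps_exists g k).choose_spec

theorem img_eq {g : Cfsg.SU 3 F 5} {k l : Fin 50} (h : D.Maps g k l) : D.img g k = l := by
  by_contra hne
  have hc := D.common_le g (D.maps_img g k) h
  rw [D.card_common, D.card_common, if_pos rfl, if_neg hne] at hc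
  split_ifs at hc <;> omega

theorem img_one (k : Fin 50) : D.img 1 k = k :=
  D.img_eq fun i hi => ⟨i, hi, 1, one_ne_zero, by rw [mat_one, Matrix.one_mulVec, one_smul]⟩

theorem img_mul (g h : Cfsg.SU 3 F 5) (k : Fin 50) : D.img (g * h) k = D.img g (D.img h k) :=
  D.img_eq (D.maps_comp (D.maps_img h k) (D.maps_img g _))

/-- The permutation of the sets. -/
noncomputable def perm : Cfsg.SU 3 F 5 →* Equiv.Perm (Fin 50) where
  toFun g := ⟨D.img g, D.img g⁻¹, fun l => by rw [← D.img_mul, inv_mul_cancel, D.img_one],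
    fun l => by rw [← D.img_mul, mul_inv_cancel, D.img_one]⟩
  map_one' := Equiv.ext D.img_one
  map_mul' g h := Equiv.ext (D.img_mul g h)

theorem perm_apply (g : Cfsg.SU 3 F 5) (k : Fin 50) : D.perm g k = D.img g k := rfl

theorem perm_mem (g : Cfsg.SU 3 F 5) : D.perm g ∈ Au := by
  intro k l
  show (adjL.getD (D.img g k : Fin 50) 0).testBit (D.img g l : Fin 50) = (adjL.getD k 0).testBit l
  by_cases hkl : k = l
  · subst hkl
    rw [self_adj, self_adj]
  have hne : D.img g k ≠ D.img g l := fun e => hkl ((D.perm g).injective e)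
  have h1 := D.common_le g (D.maps_img g k) (D.maps_img g l)
  have h2 := D.common_le g⁻¹ (D.maps_img g⁻¹ (D.img g k)) (D.maps_img g⁻¹ (D.img g l))
  rw [← D.img_mul, ← D.img_mul, inv_mul_cancel, D.img_one, D.img_one] at h2
  rw [D.card_common, D.card_common, if_neg hkl, if_neg hne] at h1 h2
  cases ha : (adjL.getD (D.img g k : Fin 50) 0).testBit (D.img g l : Fin 50) <;>
    cases hb : (adjL.getD k 0).testBit l <;> rw [ha, hb] at h1 h2 <;>
    first | rfl | (norm_num at h1; done) | (norm_num at h2; done)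

theorem perm_center {g : Cfsg.SU 3 F 5} (hg : g ∈ Subgroup.center (Cfsg.SU 3 F 5)) : D.perm g = 1 := by
  obtain ⟨a, ha⟩ := (mem_center_iff D.hF (by norm_num) g).1 hg
  refine Equiv.ext fun k => D.img_eq fun i hi => ⟨i, hi, a, fun h0 => ?_,
    by rw [ha, Matrix.smul_mulVec, Matrix.one_mulVec]⟩
  refine mat_mulVec_ne_zero g (D.P_ne i.2) ?_
  rw [ha, h0, zero_smul, Matrix.zero_mulVec]

theorem perm_ne_one : ∃ g : Cfsg.SU 3 F 5, D.perm g ≠ 1 := by
  have key : ∀ e : Fin 5, (imgS e).getD 0 50 ≠ 0 → D.perm (D.X e) ≠ 1 := fun e he h => he (by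
    obtain ⟨l, hl, hm⟩ := D.X_maps e 0
    have h1 := D.img_eq hm
    rw [← D.perm_apply, h, Equiv.Perm.one_apply] at h1
    rw [show (((0 : Fin 50) : ℕ)) = 0 from rfl] at hl
    rw [← hl, ← h1]
    rfl)
  rcases img_moves with h | h | h | h | h
  exacts [⟨_, key 0 h⟩, ⟨_, key 1 h⟩, ⟨_, key 2 h⟩, ⟨_, key 3 h⟩, ⟨_, key 4 h⟩]

/-- The action of the projective group. -/
noncomputable def pperm : Cfsg.PSU 3 F 5 →* Au :=
  QuotientGroup.lift _ (D.perm.codRestrict Au D.perm_mem) fun _ hg =>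
    MonoidHom.mem_ker.2 (Subtype.ext (D.perm_center hg))

theorem pperm_injective : Function.Injective D.pperm := by
  haveI : IsSimpleGroup (Cfsg.PSU 3 F 5) := isSimpleGroup_PSU D.hF (by norm_num) (by norm_num)
  rw [← MonoidHom.ker_eq_bot_iff]
  refine (IsSimpleGroup.eq_bot_or_eq_top_of_normal _ inferInstance).resolve_right fun h => ?_
  obtain ⟨g, hg⟩ := D.perm_ne_one
  have h1 : D.pperm (QuotientGroup.mk g) = 1 := by
    rw [← MonoidHom.mem_ker, h]; exact Subgroup.mem_top _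
  exact hg (congrArg Subtype.val h1)

end TwentyFive

end Cfsg.Agent.GroupStructure3.HSStab
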