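import Mathlib
import Cfsg.Agent.GroupStructure3.HSStab.Geom
import Cfsg.Agent.Lib.LeechAut.Co3Orbits

/-!
The Higman–Sims group on 352 vectors: a stabiliser is the simple unitary group of dimension three
over 25 elements, both acting on fifty of the hundred vectors.
-/

set_option autoImplicit false
set_option maxRecDepth 10000

namespace Cfsg.Agent.GroupStructure3.HSStab

open Cfsg Cfsg.Agent.Golay.Basic Cfsg.Agent.Leech.Basic Cfsg.Agent.Leech.Index
open Cfsg.Agent.LeechAut Cfsg.Agent.LeechAut.Basic Cfsg.Agent.LeechAut.Gens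
open Cfsg.Agent.LeechAut.Census (u5 u5_facts)
open Cfsg.Agent.LeechAut.Pairs (v0 sqNorm_v0)
open Cfsg.Agent.LeechAut.Co3Orbits (InD)
open Cfsg.Agent.GroupStructure3.McLOut (mkMask testBit_mkMask)
open Cfsg.Agent.GroupStructure3.McLInv (allB allB_spec)

/-- The product of two listed vectors. -/
def dL (L M : List ℤ) : ℤ := ((List.range 24).map fun i => L.getD i 0 * M.getD i 0).sum

theorem dot_vec (L M : List ℤ) : dotInt (vec L) (vec M) = dL L M := by
  have e : ((List.range 24).map fun i => L.getD i 0 * M.getD i 0).sum =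
      ∑ i ∈ Finset.range 24, L.getD i 0 * M.getD i 0 := rfl
  rw [dL, e, ← Fin.sum_univ_eq_sum_range]
  exact Fintype.sum_equiv ⟨fun p => (⟨ix p, ix_lt p⟩ : Fin 24), fun i => pt i, pt_ix,
    fun i => Fin.ext ((by decide : ∀ i : Fin 24, ix (pt i) = i) i)⟩ _ _ fun _ => rfl

/-- A listed vector among the hundred. -/
def yLL (i : ℕ) : List ℤ := yL.getD i []

theorem y_lat : (allB 100 fun i => inLat (vec (yLL i))) = true := by decide +kernel

theorem x_lat : inLat (vec xL) = true := by decide +kernel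

/-- The chosen vector, in the lattice. -/
def x0 : leechLattice := ⟨vec xL, mem_of_inLat x_lat⟩

/-- A vector among the hundred, in the lattice. -/
def yV (i : Fin 100) : leechLattice := ⟨vec (yLL i), mem_of_inLat (allB_spec y_lat i i.2)⟩

theorem v0_five : lst (v0 : Vec) = [4, 0, 0, 0, 0, 0, 0, 0, 0, 0, 0, 0, 0, 0, 0, 0, 0, 0, 0, 0, 0, 0, 0, 4] ∧
    lst (u5 : Vec) = [-1, -1, -1, -1, -1, 1, 1, -1, 1, 1, -1, 1, -1, 1, 1, 1, 1, 1, 1, 1, 1, 1, 1, 5] := by
  decide +kernel

theorem dot_left (v : Vec) (L : List ℤ) : dotInt v (vec L) = dL (lst v) L := by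
  rw [← dot_vec, vec_lst]

theorem y_tab : (allB 100 fun i =>
    dL (lst (v0 : Vec)) (yLL i) == 0 && dL (lst (u5 : Vec)) (yLL i) == 24 &&
      dL (yLL i) (yLL i) == 32 && allB 100 fun j => i == j || dL (yLL i) (yLL j) != 32) = true := by
  decide +kernel

theorem yV_inY (i : Fin 100) : HS.InY (yV i) := by
  have h := allB_spec y_tab i i.2
  simp only [Bool.and_eq_true, beq_iff_eq] at h
  refine ⟨?_, ?_, ?_⟩
  · show sqNorm (vec (yLL i)) = 32
    rw [← Triples.dot_self, dot_vec]; exact h.1.2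
  · show dotInt (v0 : Vec) (vec (yLL i)) = 0
    rw [dot_left]; exact h.1.1.1
  · show dotInt (u5 : Vec) (vec (yLL i)) = 24
    rw [dot_left]; exact h.1.1.2

theorem x0_inD : InD (-8) x0 := by
  have h : dL xL xL = 32 ∧ dL (lst (v0 : Vec)) xL = -8 ∧ dL (lst (u5 : Vec)) xL = 16 := by decide +kernel
  refine ⟨⟨?_, ?_⟩, ?_⟩
  · show sqNorm (vec xL) = 32
    rw [← Triples.dot_self, dot_vec]; exact h.1
  · show dotInt (u5 : Vec) (vec xL) = 16
    rw [dot_left]; exact h.2.2
  · show dotInt (v0 : Vec) (vec xL) = -8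
    rw [dot_left]; exact h.2.1

/-- A point of the hundred. -/
def yI (i : Fin 100) : HS.Y := ⟨yV i, yV_inY i⟩

theorem dot_yI (i j : Fin 100) : dotInt ((yI i).1 : Vec) ((yI j).1 : Vec) = dL (yLL i) (yLL j) :=
  dot_vec _ _

theorem yI_bij : Function.Bijective yI := by
  haveI : Finite HS.Y := Nat.finite_of_card_ne_zero (by rw [HS.card_Y]; norm_num)
  have hinj : Function.Injective yI := fun i j e => by
    have h := allB_spec y_tab i i.2
    simp only [Bool.and_eq_true, beq_iff_eq] at h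
    have hj := allB_spec h.2 j j.2
    rw [Bool.or_eq_true, beq_iff_eq, bne_iff_ne, ← dot_yI, ← e, Triples.dot_self] at hj
    exact Fin.ext (hj.resolve_right fun hne => hne (yI i).2.1)
  exact (Nat.bijective_iff_injective_and_card yI).2 ⟨hinj, by rw [HS.card_Y, Nat.card_fin]⟩

/-- One of the fifty. -/
def half (k : Fin 50) : Fin 100 := ⟨halfL.getD k 0 % 100, Nat.mod_lt _ (by norm_num)⟩

theorem half_inj : ∀ k l : Fin 50, half k = half l → k = l := by decide +kernel

theorem half_iff : ∀ i : Fin 100, dL xL (yLL i) = 16 ↔ ∃ k, half k = i := by decide +kernel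

theorem half_adj : ∀ k l : Fin 50, adjB k l = true ↔ dL (yLL (half k)) (yLL (half l)) = 8 := by
  decide +kernel

/-- The products of a vector with the fifty, as a mask. -/
def sigM (i : ℕ) : ℕ := mkMask (fun k => dL (yLL i) (yLL (halfL.getD k 0 % 100)) == 8) 50

theorem sig_inj : (((List.range 100).filter fun i => dL xL (yLL i) != 16).map sigM).Nodup := by
  decide +kernel

/-- The stabiliser of the chosen vector. -/
noncomputable def H0 : Subgroup HS.G := MulAction.stabilizer HS.G x0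

theorem fix_x0 (g : H0) : ((g : HS.G) : Co0) • x0 = x0 := g.2

theorem dot_x0 (g : H0) (y : HS.Y) :
    dotInt (x0 : Vec) (((g : HS.G) • y).1 : Vec) = dotInt (x0 : Vec) (y.1 : Vec) := by
  show dotInt (x0 : Vec) ((((g : HS.G) : Co0) • y.1 : leechLattice) : Vec) = _
  conv_lhs => rw [← fix_x0 g]
  exact dot_smul _ _ _

theorem exists_img (g : H0) (k : Fin 50) : ∃ l : Fin 50, yI (half l) = (g : HS.G) • yI (half k) := by
  obtain ⟨i, hi⟩ := yI_bij.2 ((g : HS.G) • yI (half k))
  have h := dot_x0 g (yI (half k))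
  rw [← hi] at h
  have e : dL xL (yLL i) = 16 :=
    ((dot_vec _ _).symm.trans (h.trans (dot_vec _ _))).trans ((half_iff _).2 ⟨k, rfl⟩)
  obtain ⟨l, rfl⟩ := (half_iff i).1 e
  exact ⟨l, hi⟩

/-- The image among the fifty. -/
noncomputable def imgH (g : H0) (k : Fin 50) : Fin 50 := (exists_img g k).choose

theorem y_imgH (g : H0) (k : Fin 50) : yI (half (imgH g k)) = (g : HS.G) • yI (half k) :=
  (exists_img g k).choose_spec

theorem imgH_mul (g h : H0) (k : Fin 50) : imgH (g * h) k = imgH g (imgH h k) :=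
  half_inj _ _ (yI_bij.1 (by rw [y_imgH, y_imgH, y_imgH, Subgroup.coe_mul, mul_smul]))

theorem imgH_one (k : Fin 50) : imgH 1 k = k :=
  half_inj _ _ (yI_bij.1 (by rw [y_imgH, Subgroup.coe_one, one_smul]))

/-- The action on the fifty. -/
noncomputable def act : H0 →* Equiv.Perm (Fin 50) where
  toFun g := ⟨imgH g, imgH g⁻¹, fun k => by rw [← imgH_mul, inv_mul_cancel, imgH_one],
    fun k => by rw [← imgH_mul, mul_inv_cancel, imgH_one]⟩
  map_one' := Equiv.ext imgH_one
  map_mul' g h := Equiv.ext (imgH_mul g h)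

theorem dot_act (g : HS.G) (y z : HS.Y) :
    dotInt ((g • y).1 : Vec) ((g • z).1 : Vec) = dotInt (y.1 : Vec) (z.1 : Vec) := dot_smul _ _ _

theorem act_mem (g : H0) : act g ∈ Au := fun k l => by
  show adjB (imgH g k) (imgH g l) = adjB k l
  rw [Bool.eq_iff_iff, half_adj, half_adj, ← dot_yI, ← dot_yI, y_imgH, y_imgH, dot_act]

theorem act_injective : Function.Injective act := by
  rw [injective_iff_map_eq_one]
  intro g hg
  have hhalf : ∀ k, (g : HS.G) • yI (half k) = yI (half k) := fun k => by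
    rw [← y_imgH, show imgH g k = k from DFunLike.congr_fun hg k]
  refine Subtype.ext (HS.faithful fun y => ?_)
  obtain ⟨i, rfl⟩ := yI_bij.2 y
  by_cases hi : dL xL (yLL i) = 16
  · obtain ⟨k, rfl⟩ := (half_iff i).1 hi
    exact hhalf k
  obtain ⟨j, hj⟩ := yI_bij.2 ((g : HS.G) • yI i)
  rw [← hj]
  refine congrArg yI ?_
  have hd : dL xL (yLL j) = dL xL (yLL i) := by
    have h := dot_x0 g (yI i)
    rw [← hj] at h
    exact (dot_vec _ _).symm.trans (h.trans (dot_vec _ _))
  have hmem : ∀ m : Fin 100, dL xL (yLL m) ≠ 16 →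
      (m : ℕ) ∈ (List.range 100).filter fun i => dL xL (yLL i) != 16 := fun m hm =>
    List.mem_filter.2 ⟨List.mem_range.2 m.2, bne_iff_ne.2 hm⟩
  refine Fin.ext (List.inj_on_of_nodup_map sig_inj (hmem j (hd ▸ hi)) (hmem i hi) ?_)
  apply Nat.eq_of_testBit_eq
  intro k
  rw [sigM, sigM, testBit_mkMask, testBit_mkMask]
  by_cases hk : k < 50
  · have e : dL (yLL j) (yLL (half ⟨k, hk⟩)) = dL (yLL i) (yLL (half ⟨k, hk⟩)) := by
      rw [← dot_yI, ← dot_yI, hj]
      conv_lhs => rw [← hhalf ⟨k, hk⟩]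
      exact dot_act _ _ _
    simp only [half] at e
    rw [e]
  · rw [decide_eq_false hk, Bool.false_and, Bool.false_and]

theorem orbit_x0 (y : leechLattice) : InD (-8) y ↔ y ∈ MulAction.orbit HS.G x0 := by
  obtain ⟨-, y0, -, hy⟩ := Co3Orbits.orbit352
  rw [hy, MulAction.orbit_eq_iff.2 ((hy x0).1 x0_inD)]

theorem card_H0 : Nat.card H0 = 126000 := by
  have h := Subgroup.index_mul_card H0
  rw [H0, MulAction.index_stabilizer, show MulAction.orbit HS.G x0 = {y | InD (-8) y} from
    Set.ext fun y => (orbit_x0 y).symm, Co3Orbits.orbit352.1, HS.card_G] at h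
  rw [H0]
  omega

theorem nonempty_equiv {F : Type} [Field F] [Fintype F] (hF : Fintype.card F = 25) :
    Nonempty (H0 ≃* Cfsg.PSU 3 F 5) := by
  obtain ⟨D⟩ := exists_twentyFive hF
  haveI hs : IsSimpleGroup (Cfsg.PSU 3 F 5) :=
    Cfsg.Agent.Classical.Unitary.isSimpleGroup_PSU D.hF (by norm_num) (by norm_num)
  have hcard : Nat.card (Cfsg.PSU 3 F 5) = 126000 := by
    have h := Cfsg.Agent.S0280.result D.hF 3 (by norm_num)
    norm_num [Finset.prod_range_succ, Nat.even_iff] at h
    omega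
  let a : H0 →* Au := act.codRestrict Au act_mem
  have ha : Function.Injective a := fun x y e => act_injective (congrArg Subtype.val e)
  let Hh : Subgroup Au := a.range
  have hHh : Nat.card Hh = 126000 :=
    (Nat.card_congr (MonoidHom.ofInjective ha).toEquiv).symm.trans card_H0
  let P : Subgroup (Cfsg.PSU 3 F 5) := Hh.comap D.pperm
  have hP : P = ⊤ := by
    have hi2 : P.index ≤ 2 := by
      have h1 : P.index ≤ Hh.index := by
        rw [Subgroup.index_comap]
        refine (Subgroup.relIndex_le_of_le_right le_top ?_).trans_eq (Subgroup.relIndex_top_right Hh)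
        rw [Subgroup.relIndex_top_right]
        exact Hh.index_ne_zero_of_finite
      have h2 := Hh.card_mul_index
      have h3 : Nat.card Au ≤ 252000 := card_Au_le
      rw [hHh] at h2
      omega
    have h0 : P.index ≠ 0 := P.index_ne_zero_of_finite
    rcases (show P.index = 1 ∨ P.index = 2 by omega) with e | e
    · exact Subgroup.index_eq_one.1 e
    · haveI := Subgroup.normal_of_index_eq_two e
      refine (IsSimpleGroup.eq_bot_or_eq_top_of_normal P inferInstance).resolve_left fun hb => ?_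
      rw [hb, Subgroup.index_bot, hcard] at e
      omega
  have hle : D.pperm.range ≤ Hh := by
    rintro _ ⟨g, rfl⟩
    exact (show g ∈ P from hP ▸ Subgroup.mem_top g)
  have heq : D.pperm.range = Hh := Subgroup.eq_of_le_of_card_ge hle (by
    rw [hHh, ← Nat.card_congr (MonoidHom.ofInjective D.pperm_injective).toEquiv, hcard])
  exact ⟨((MonoidHom.ofInjective ha).trans (MulEquiv.subgroupCongr heq.symm)).trans
    (MonoidHom.ofInjective D.pperm_injective).symm⟩

theorem dot_expand (a b c : Vec) :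
    dotInt a (-b - c) = -dotInt a b - dotInt a c ∧
      sqNorm (-b - c) = sqNorm b + 2 * dotInt b c + sqNorm c := by
  refine ⟨?_, ?_⟩
  · simp only [dotInt, Pi.sub_apply, Pi.neg_apply, ← Finset.sum_neg_distrib, ← Finset.sum_sub_distrib]
    exact Finset.sum_congr rfl fun p _ => by ring
  · simp only [sqNorm, dotInt, Pi.sub_apply, Pi.neg_apply, Finset.mul_sum, ← Finset.sum_add_distrib]
    exact Finset.sum_congr rfl fun p _ => by ring

/-- The 352 vectors of a pair. -/
def X (v w : leechLattice) : Set leechLattice :=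
  {x | sqNorm (x : Vec) = 32 ∧ dotInt (v : Vec) (x : Vec) = 16 ∧ dotInt (w : Vec) (x : Vec) = -24}

theorem main (v w : leechLattice) (hv : sqNorm (v : Vec) = 48) (hw : sqNorm (w : Vec) = 48)
    (hvw : dotInt (v : Vec) (w : Vec) = -32) {F : Type} [Field F] [Fintype F] (hF : Fintype.card F = 25) :
    (X v w).ncard = 352 ∧ (∀ x ∈ X v w, -w - x ∈ X v w) ∧
    (∀ x ∈ X v w, ∀ x' ∈ X v w, ∃ g : Co0, g • v = v ∧ g • w = w ∧ g • x = x') ∧
    ∀ x ∈ X v w, Nonempty (↥(MulAction.stabilizer Co0 v ⊓ MulAction.stabilizer Co0 w ⊓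
      MulAction.stabilizer Co0 x) ≃* Cfsg.PSU 3 F 5) := by
  obtain ⟨hs, hsv⟩ := Triples.sum_facts hv hw hvw
  obtain ⟨h, h1, h2⟩ := Triples.trans_sv (v + w) v v0 u5 hs hv hsv sqNorm_v0 u5_facts.1 HS.dot_v0u5
  have hX : ∀ x, x ∈ X v w ↔ InD (-8) (h • x) := fun x => by
    show _ ↔ (_ ∧ _) ∧ _
    rw [← h1, ← h2, dot_smul, dot_smul, sqNorm_smul, AddSubgroup.coe_add, Triples.dot_add_left]
    exact ⟨fun ⟨a, b, c⟩ => ⟨⟨a, b⟩, by omega⟩, fun ⟨⟨a, b⟩, c⟩ => ⟨a, b, by omega⟩⟩
  have hfix : ∀ g : Co0, g ∈ HS.G → (h⁻¹ * g * h) • v = v ∧ (h⁻¹ * g * h) • w = w := fun g hg => by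
    obtain ⟨g1, g2⟩ := HS.mem_G.1 hg
    have a2 : (h⁻¹ * g * h) • v = v := by rw [mul_smul, mul_smul, h2, g2, ← h2, inv_smul_smul]
    have a1 : (h⁻¹ * g * h) • (v + w) = v + w := by
      rw [mul_smul, mul_smul, h1, g1, ← h1, inv_smul_smul]
    rw [smul_add', a2] at a1
    exact ⟨a2, add_left_cancel a1⟩
  refine ⟨?_, ?_, ?_, ?_⟩
  · have e : X v w = (fun y => h⁻¹ • y) '' {y | InD (-8) y} := by
      ext x
      rw [hX]
      exact ⟨fun hx => ⟨h • x, hx, inv_smul_smul h x⟩, by
        rintro ⟨y, hy, rfl⟩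
        rw [smul_inv_smul]
        exact hy⟩
    rw [e, Set.ncard_image_of_injective _ (MulAction.injective h⁻¹), Co3Orbits.orbit352.1]
  · rintro x ⟨a, b, c⟩
    have e : ((-w - x : leechLattice) : Vec) = -(w : Vec) - (x : Vec) := rfl
    show sqNorm _ = 32 ∧ dotInt _ _ = 16 ∧ dotInt _ _ = -24
    rw [e, (dot_expand (v : Vec) _ _).1, (dot_expand (v : Vec) _ _).2, (dot_expand (w : Vec) _ _).1,
      Triples.dot_self, a, b, c, hw, hvw]
    norm_num
  · intro x hx x' hx'
    obtain ⟨g, hg⟩ := (orbit_x0 _).1 ((hX x).1 hx)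
    obtain ⟨g', hg'⟩ := (orbit_x0 _).1 ((hX x').1 hx')
    obtain ⟨b1, b2⟩ := hfix _ ((g' * g⁻¹ : HS.G).2)
    refine ⟨_, b1, b2, ?_⟩
    have e : ((g' * g⁻¹ : HS.G) : Co0) • h • x = h • x' := by
      rw [Subgroup.coe_mul, mul_smul, Subgroup.coe_inv, ← show (g : Co0) • x0 = h • x from hg,
        inv_smul_smul]
      exact hg'
    rw [mul_smul, mul_smul, e, inv_smul_smul]
  · intro x hx
    obtain ⟨g, hg⟩ := (orbit_x0 _).1 ((hX x).1 hx)
    set k : Co0 := (g : Co0)⁻¹ * h with hk
    obtain ⟨gv, gu⟩ := HS.mem_G.1 (inv_mem g.2)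
    have k1 : k • (v + w) = v0 := by rw [hk, mul_smul, h1, gv]
    have k2 : k • v = u5 := by rw [hk, mul_smul, h2, gu]
    have k3 : k • x = x0 := by
      rw [hk, mul_smul, ← show (g : Co0) • x0 = h • x from hg, inv_smul_smul]
    have e : (MulAction.stabilizer Co0 v ⊓ MulAction.stabilizer Co0 w ⊓ MulAction.stabilizer Co0 x).map
        (MulAut.conj k).toMonoidHom = H0.map HS.G.subtype := by
      ext z
      simp only [Subgroup.mem_map, Subgroup.mem_inf, MulAction.mem_stabilizer_iff,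
        MulEquiv.coe_toMonoidHom, MulAut.conj_apply, H0]
      constructor
      · rintro ⟨j, ⟨⟨jv, jw⟩, jx⟩, rfl⟩
        have js : j • (v + w) = v + w := by rw [smul_add', jv, jw]
        have hmem : k * j * k⁻¹ ∈ HS.G := HS.mem_G.2 ⟨by
          rw [← k1, mul_smul, mul_smul, inv_smul_smul, js], by
          rw [← k2, mul_smul, mul_smul, inv_smul_smul, jv]⟩
        refine ⟨⟨_, hmem⟩, ?_, rfl⟩
        show (k * j * k⁻¹) • x0 = x0
        rw [← k3, mul_smul, mul_smul, inv_smul_smul, jx]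
      · rintro ⟨z, hz, rfl⟩
        obtain ⟨z1, z2⟩ := HS.mem_G.1 z.2
        have zx : (z : Co0) • x0 = x0 := hz
        have a1 : (k⁻¹ * (z : Co0) * k) • (v + w) = v + w := by
          rw [mul_smul, mul_smul, k1, z1, ← k1, inv_smul_smul]
        have a2 : (k⁻¹ * (z : Co0) * k) • v = v := by
          rw [mul_smul, mul_smul, k2, z2, ← k2, inv_smul_smul]
        rw [smul_add', a2] at a1
        refine ⟨k⁻¹ * (z : Co0) * k, ⟨⟨a2, add_left_cancel a1⟩, ?_⟩, ?_⟩
        · rw [mul_smul, mul_smul, k3, zx, ← k3, inv_smul_smul]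
        · show k * (k⁻¹ * (z : Co0) * k) * k⁻¹ = (z : Co0)
          group
    obtain ⟨E⟩ := nonempty_equiv hF
    exact ⟨((Subgroup.equivMapOfInjective _ _ (MulAut.conj k).injective).trans
      (MulEquiv.subgroupCongr e)).trans
        ((Subgroup.equivMapOfInjective H0 HS.G.subtype HS.G.subtype_injective).symm.trans E)⟩

end Cfsg.Agent.GroupStructure3.HSStab
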